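import Groth.Agent.TameKum.GaloisTame
import Groth.Agent.TameKum.KBase

/-!
# Galois covers: ramification divides the order of the group
-/

set_option autoImplicit false
set_option linter.all false
set_option maxHeartbeats 1000000
set_option backward.isDefEq.respectTransparency.types false
set_option backward.isDefEq.respectTransparency false

universe u

open Polynomial IsLocalRing TensorProduct
open Groth.Agent.TameKum

namespace Groth.Agent.Et18.AbhyankarExt

/-- The ramification index of a Galois extension divides the degree. -/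
theorem idx_dvd_of_galois {O K L : Type u} [CommRing O] [IsDomain O] [IsDiscreteValuationRing O] [Field K] [Algebra O K]
    [IsFractionRing O K] [Field L] [Algebra K L] [FiniteDimensional K L] [IsGalois K L]
    (V : ValuationSubring L) (hV : EtRam.Dominates O ((algebraMap K L).comp (algebraMap O K)) V) :
    (letI : Algebra O V := (RingHom.codRestrict _ V hV.1).toAlgebra
     Ideal.ramificationIdx' (maximalIdeal O) (maximalIdeal V)) ∣ Module.finrank K L := by
  classical
  letI : Algebra O L := ((algebraMap K L).comp (algebraMap O K)).toAlgebra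
  haveI : IsScalarTower O K L := IsScalarTower.of_algebraMap_eq fun _ => rfl
  letI : Algebra O V := (RingHom.codRestrict _ V hV.1).toAlgebra
  haveI : IsLocalHom (algebraMap O V) := isLocalHom_of_dominates hV
  haveI := CohDer1.TameTower.isDVR_of_dominates O K L V hV
  let D := integralClosure O L
  haveI : IsDedekindDomain D := IsIntegralClosure.isDedekindDomain O K L D
  haveI : IsFractionRing D L := integralClosure.isFractionRing_of_finite_extension K L
  haveI : Module.Finite O D := IsIntegralClosure.finite O K L D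
  haveI : Module.IsTorsionFree O L := by
    rw [Module.isTorsionFree_iff_algebraMap_injective]
    exact (algebraMap K L).injective.comp (IsFractionRing.injective O K)
  haveI : Module.IsTorsionFree O D := by
    rw [Module.isTorsionFree_iff_algebraMap_injective]
    exact fun a b hab => (Module.isTorsionFree_iff_algebraMap_injective.1 ‹Module.IsTorsionFree O L›) (congrArg Subtype.val hab)
  obtain ⟨Q, _, ε, hQ0, hQO, hε⟩ := exists_center (O := O) (K := K) V hV
  haveI : Q.LiesOver (maximalIdeal O) := ⟨hQO.symm⟩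
  obtain ⟨π, hπ⟩ := IsDiscreteValuationRing.exists_irreducible O
  obtain ⟨_, ϖ, u, e, hϖ, he, hu, hidx⟩ := exists_factor (K := K) (L := L) hπ V hV
  let DQ := Localization.AtPrime Q
  haveI : IsDiscreteValuationRing DQ := IsLocalization.AtPrime.isDiscreteValuationRing_of_dedekind_domain D hQ0 DQ
  have hϖ' : Irreducible (ε.symm ϖ) := (MulEquiv.irreducible_iff ε.symm).2 hϖ
  have hidx' : Q.ramificationIdx O = e := by
    rw [Ideal.ramificationIdx_eq (maximalIdeal O) Q, hπ.maximalIdeal_eq, Ideal.map_span, Set.image_singleton,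
      show algebraMap O DQ π = ε.symm (algebraMap O V π) by
        rw [RingEquiv.eq_symm_apply, IsScalarTower.algebraMap_apply O D DQ]
        exact Subtype.ext (hε _),
      show algebraMap O V π = u * ϖ ^ e from hu, map_mul, map_pow,
      Ideal.span_singleton_mul_left_unit (u.isUnit.map ε.symm), ← Ideal.span_singleton_pow, ← hϖ'.maximalIdeal_eq,
      IsDiscreteValuationRing.length_quotient_pow_maximalIdeal, ENat.toNat_natCast]
  let φ : D →+* ResidueField V := (residue V).comp (ε.toRingHom.comp (algebraMap D DQ))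
  have hker : ∀ d, φ d = 0 ↔ d ∈ Q := fun d => by
    show residue V (ε (algebraMap D DQ d)) = 0 ↔ _
    rw [residue_eq_zero_iff, mem_maximalIdeal, mem_nonunits_iff, isUnit_map_iff, ← mem_nonunits_iff,
      ← mem_maximalIdeal, IsLocalization.AtPrime.to_map_mem_maximal_iff DQ Q]
  have hφsurj : Function.Surjective φ := by
    intro y
    obtain ⟨v, rfl⟩ := residue_surjective y
    obtain ⟨a, s, hs⟩ := IsLocalization.exists_mk'_eq Q.primeCompl (ε.symm v)
    obtain ⟨b, hb⟩ := Ideal.IsMaximal.exists_inv (I := Q) inferInstance s.2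
    obtain ⟨m, hm, hbm⟩ := hb
    refine ⟨a * b, ?_⟩
    have h1 : residue V v * φ s = φ a := by
      show residue V v * residue V (ε (algebraMap D DQ (s : D))) = residue V (ε (algebraMap D DQ a))
      rw [← map_mul, ← IsLocalization.mk'_spec DQ a s, map_mul ε, hs, RingEquiv.apply_symm_apply]
    have h2 : φ b * φ s = 1 := by
      have := congrArg φ hbm
      rwa [map_add, map_mul, map_one, (hker m).2 hm, add_zero] at this
    rw [map_mul, ← h1, mul_assoc, mul_comm (φ s), h2, mul_one]
  let φQ : D ⧸ Q ≃+* ResidueField V :=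
    RingEquiv.ofBijective (Ideal.Quotient.lift Q φ fun d hd => (hker d).2 hd)
      ⟨(injective_iff_map_eq_zero _).2 fun z hz => by
        obtain ⟨d, rfl⟩ := Ideal.Quotient.mk_surjective z
        exact Ideal.Quotient.eq_zero_iff_mem.2 ((hker d).1 hz),
      fun y => ⟨Ideal.Quotient.mk Q (hφsurj y).choose, (hφsurj y).choose_spec⟩⟩
  have hf : Q.inertiaDeg O = Module.finrank (ResidueField O) (ResidueField V) := by
    rw [Ideal.inertiaDeg_eq_of_isMaximal (maximalIdeal O) Q]
    refine Algebra.finrank_eq_of_equiv_equiv (RingEquiv.refl _) φQ (RingHom.ext fun z => ?_)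
    obtain ⟨a, rfl⟩ := Ideal.Quotient.mk_surjective z
    show residue V (algebraMap O V a) = residue V (ε (algebraMap D DQ (algebraMap O D a)))
    congr 1
    exact Subtype.ext (hε (algebraMap O D a)).symm
  haveI : Module.Free O D := Module.free_of_finite_type_torsion_free'
  letI : MulSemiringAction Gal(L/K) D := IsIntegralClosure.MulSemiringAction O K L D
  haveI : IsGaloisGroup Gal(L/K) O D := IsGaloisGroup.of_isFractionRing _ _ _ K L
  have hid := Ideal.ncard_primesOver_mul_ramificationIdxIn_mul_inertiaDegIn (maximalIdeal O) D Gal(L/K)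
  rw [Ideal.ramificationIdxIn_eq_ramificationIdx (maximalIdeal O) Q Gal(L/K),
    Ideal.inertiaDegIn_eq_inertiaDeg (maximalIdeal O) Q Gal(L/K), IsGalois.card_aut_eq_finrank, hidx', hf] at hid
  rw [hidx, ← hid]
  exact dvd_mul_of_dvd_right (dvd_mul_right _ _) _

variable {A : Type u} [CommRing A] [IsDomain A] {B : Type u} [CommRing B] [Algebra A B]
  {G : Type*} [Group G] [Finite G] (a : G → (B →ₐ[A] B)) (h1 : a 1 = AlgHom.id A B)
  (hmul : ∀ σ τ, a (σ * τ) = (a τ).comp (a σ))
  (htrans : ∀ (Ω : Type u) [Field Ω] [IsAlgClosed Ω] [Algebra A Ω] (φ φ' : B →ₐ[A] Ω), ∃ σ, φ.comp (a σ) = φ')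
  (g : A) (hg : g ≠ 0) [Algebra (Localization.Away g) B] [IsScalarTower A (Localization.Away g) B]
  [Module.Finite (Localization.Away g) B] [Algebra.Etale (Localization.Away g) B]

include h1 hmul htrans g hg in
theorem galois_of_transitive (q : Ideal B) [q.IsPrime] (hq : q.comap (algebraMap A B) = ⊥) :
    letI := genericAlgebra q hq
    IsGalois (FractionRing A) q.ResidueField ∧
      Module.finrank (FractionRing A) q.ResidueField ∣ Nat.card G := by
  classical
  letI := genericAlgebra q hq
  obtain ⟨_, _, _, -⟩ := finite_separable_generic q hq g hg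
  let K := FractionRing A
  let L := q.ResidueField
  let Ω := AlgebraicClosure L
  haveI : IsScalarTower A K Ω := IsScalarTower.of_algebraMap_eq fun x => by
    rw [IsScalarTower.algebraMap_apply A L Ω, IsScalarTower.algebraMap_apply A K L, ← IsScalarTower.algebraMap_apply K L Ω]
  let φ₀ : B →ₐ[A] Ω := (IsScalarTower.toAlgHom A L Ω).comp (IsScalarTower.toAlgHom A B L)
  letI : MulAction G (B →ₐ[A] Ω) :=
    { smul := fun σ φ => φ.comp (a σ)
      one_smul := fun φ => by show φ.comp (a 1) = φ; rw [h1]; rfl
      mul_smul := fun σ τ φ => by show φ.comp (a (σ * τ)) = (φ.comp (a τ)).comp (a σ); rw [hmul]; rfl }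
  letI : MulAction G (PrimeSpectrum B) :=
    { smul := fun σ p => PrimeSpectrum.comap (a σ).toRingHom p
      one_smul := fun p => by show PrimeSpectrum.comap (a 1).toRingHom p = p; rw [h1]; rfl
      mul_smul := fun σ τ p => by
        show PrimeSpectrum.comap (a (σ * τ)).toRingHom p = PrimeSpectrum.comap (a σ).toRingHom (PrimeSpectrum.comap (a τ).toRingHom p)
        rw [hmul]; rfl }
  let pq : PrimeSpectrum B := ⟨q, inferInstance⟩
  let H := MulAction.stabilizer G pq
  let pt : (L →ₐ[K] Ω) → (B →ₐ[A] Ω) := fun τ => (τ.restrictScalars A).comp (IsScalarTower.toAlgHom A B L)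
  have hptinj : Function.Injective pt := fun τ τ' h => by
    have h2 : τ.restrictScalars A = τ'.restrictScalars A := Ideal.ResidueField.algHom_ext h
    exact AlgHom.ext fun x => congr($h2 x)
  have hker : ∀ τ, RingHom.ker (pt τ).toRingHom = q := fun τ => by
    ext x
    show τ (algebraMap B L x) = 0 ↔ x ∈ q
    rw [map_eq_zero, ← RingHom.mem_ker, Ideal.ker_algebraMap_residueField]
  have hlift : ∀ (F : Type u) [Field F] [Algebra A F] [Algebra K F] [IsScalarTower A K F] (φ : B →ₐ[A] F),
      RingHom.ker φ.toRingHom = q → ∃ τ : L →ₐ[K] F, (τ.restrictScalars A).comp (IsScalarTower.toAlgHom A B L) = φ := by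
    intro F _ _ _ _ φ hφ
    have hu : q.primeCompl ≤ (IsUnit.submonoid F).comap φ.toRingHom := fun x hx =>
      IsUnit.mem_submonoid_iff _ |>.2 (isUnit_iff_ne_zero.2 fun h0 => hx (hφ ▸ (RingHom.mem_ker.2 h0)))
    let l := Ideal.ResidueField.lift q φ.toRingHom hφ.ge hu
    have hl : ∀ x, l (algebraMap B L x) = φ x := fun x => Ideal.ResidueField.lift_algebraMap _ _ hφ.ge hu x
    have hK : l.comp (algebraMap K L) = algebraMap K F := IsLocalization.ringHom_ext (nonZeroDivisors A) (RingHom.ext fun x => by
      simp only [RingHom.comp_apply]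
      rw [← IsScalarTower.algebraMap_apply A K L, IsScalarTower.algebraMap_apply A B L, hl, φ.commutes,
        ← IsScalarTower.algebraMap_apply A K F])
    exact ⟨{ toRingHom := l, commutes' := fun z => congr($hK z) }, AlgHom.ext hl⟩
  have hkerσ : ∀ (σ : G) (τ : L →ₐ[K] Ω), RingHom.ker ((σ • pt τ : B →ₐ[A] Ω)).toRingHom = (σ • pq).asIdeal := by
    intro σ τ
    show RingHom.ker ((pt τ).toRingHom.comp (a σ).toRingHom) = Ideal.comap (a σ).toRingHom q
    rw [← RingHom.comap_ker, hker]
  let τ₀ : L →ₐ[K] Ω := IsScalarTower.toAlgHom K L Ω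
  have horb : MulAction.orbit H (pt τ₀) = Set.range pt := by
    ext φ
    constructor
    · rintro ⟨⟨σ, hσ⟩, rfl⟩
      refine hlift Ω (σ • pt τ₀) ?_
      rw [hkerσ, show σ • pq = pq from hσ]
    · rintro ⟨τ, rfl⟩
      obtain ⟨σ, hσ⟩ := htrans Ω (pt τ₀) (pt τ)
      have hσ' : σ • pt τ₀ = pt τ := hσ
      have hσq : σ ∈ H := PrimeSpectrum.ext (by rw [← hkerσ σ τ₀, hσ', hker])
      exact ⟨⟨σ, hσq⟩, hσ'⟩
  have hnorm : ∀ τ : L →ₐ[K] Ω, ∃ g : L →ₐ[K] L, τ = τ₀.comp g := by
    intro τ
    obtain ⟨⟨σ, hσ⟩, hσ'⟩ : pt τ ∈ MulAction.orbit H (pt τ₀) := horb ▸ ⟨τ, rfl⟩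
    have hk : RingHom.ker ((IsScalarTower.toAlgHom A B L).comp (a σ)).toRingHom = q := by
      show RingHom.ker ((algebraMap B L).comp (a σ).toRingHom) = q
      rw [← RingHom.comap_ker, Ideal.ker_algebraMap_residueField]
      exact congrArg PrimeSpectrum.asIdeal hσ
    obtain ⟨g', hg'⟩ := hlift L _ hk
    refine ⟨g', hptinj ?_⟩
    rw [← hσ']
    show ((IsScalarTower.toAlgHom A L Ω).comp (IsScalarTower.toAlgHom A B L)).comp (a σ) =
      (IsScalarTower.toAlgHom A L Ω).comp ((g'.restrictScalars A).comp (IsScalarTower.toAlgHom A B L))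
    rw [hg', AlgHom.comp_assoc]
  have hcard : Nat.card (L →ₐ[K] Ω) = Module.finrank K L :=
    AlgHom.natCard_of_splits K L Ω fun _ => IsAlgClosed.splits _
  refine ⟨IsGalois.of_card_aut_eq_finrank K L (hcard ▸ ?_), ?_⟩
  · rw [Nat.card_congr (algEquivEquivAlgHom K L).toEquiv]
    refine Nat.card_congr (Equiv.ofBijective (fun g : L →ₐ[K] L => τ₀.comp g) ⟨fun a b h => AlgHom.ext fun x => ?_,
      fun τ => (hnorm τ).imp fun g hg => hg.symm⟩)
    exact (algebraMap L Ω).injective congr($h x)
  · have h1 : (MulAction.orbit H (pt τ₀)).ncard = Module.finrank K L := by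
      rw [horb, Set.ncard_range_of_injective hptinj, hcard]
    rw [← h1, ← MulAction.index_stabilizer]
    exact (Subgroup.index_dvd_card _).trans (Subgroup.card_subgroup_dvd_card H)

include h1 hmul htrans hg in
/-- A cover with a transitive group of order `n` prime to the residue characteristic is tame, killed by `n`. -/
theorem tame_kills (f : A) [IsNoetherianRing A] [hp : (Ideal.span {f}).IsPrime] (hf0 : f ≠ 0)
    (hdvr : IsDiscreteValuationRing (Localization.AtPrime (Ideal.span {f})))
    (hn : (Nat.card G : ResidueField (Localization.AtPrime (Ideal.span {f}))) ≠ 0) :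
    (∀ (q : Ideal B) [q.IsPrime] (hq : Ideal.comap (algebraMap A B) q = ⊥),
      EtRam.IsTamelyRamified (Localization.AtPrime (Ideal.span {f}))
        (SGA1.genericResidueMap (algebraMap A B) (Ideal.span {f}) q hq)) ∧
      Kills (algebraMap A B) f (Nat.card G) := by
  let O := Localization.AtPrime (Ideal.span {f})
  let K := FractionRing A
  letI : Algebra O K := IsLocalization.localizationAlgebraOfSubmonoidLe O K (Ideal.span {f}).primeCompl
    (nonZeroDivisors A) (Ideal.span {f}).primeCompl_le_nonZeroDivisors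
  haveI : IsScalarTower A O K := IsLocalization.localization_isScalarTower_of_submonoid_le O K _ _ _
  haveI : IsFractionRing O K :=
    IsFractionRing.isFractionRing_of_isDomain_of_isLocalization (Ideal.span {f}).primeCompl O K
  refine ⟨fun q _ hq => ?_, fun q _ hq => ?_⟩ <;> letI := genericAlgebra q hq <;>
    obtain ⟨_, _, _, -⟩ := finite_separable_generic q hq g hg <;>
    obtain ⟨hgal, hd⟩ := galois_of_transitive a h1 hmul htrans g hg q hq <;>
    haveI : IsGalois (FractionRing A) q.ResidueField := hgal
  · rw [genericResidueMap_eq q hq (Ideal.span {f})]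
    refine tame_of_galois fun h0 => hn ?_
    obtain ⟨c, hc⟩ := hd
    rw [hc, Nat.cast_mul, h0, zero_mul]
  · refine idx_dvd_congr (genericResidueMap_eq q hq (Ideal.span {f})).symm fun V hV => ?_
    exact (idx_dvd_of_galois V hV).trans hd

end Groth.Agent.Et18.AbhyankarExt
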