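import Groth.Agent.NeronLib.Regular
import Groth.Agent.CAlgH3.RegularHom
import Groth.Agent.CAlgH.KummerAlg
import Groth.Prelude.Def_SGA1
import Mathlib.RingTheory.AdjoinRoot
import Mathlib.AlgebraicGeometry.Morphisms.Smooth

/-!
# Schemes smooth over a discrete valuation ring at points of the special fibre
-/

set_option autoImplicit false
set_option linter.all false
set_option backward.isDefEq.respectTransparency.types false
set_option backward.isDefEq.respectTransparency false
set_option maxHeartbeats 1000000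

universe u

open CategoryTheory CategoryTheory.Limits AlgebraicGeometry Opposite IsLocalRing

namespace Groth.Agent.Et18.AbhyankarExt

section Stk

variable {R : CommRingCat.{u}} {X : Scheme.{u}} (f : X ⟶ Spec R) (x : X)

/-- The ring map `R → O_{X,x}`. -/
noncomputable def stk : R ⟶ X.presheaf.stalk x := Spec.preimage (X.fromSpecStalk x ≫ f)

theorem map_stk : Spec.map (stk f x) = X.fromSpecStalk x ≫ f := Spec.map_preimage _

theorem stk_comp {Y : Scheme.{u}} (g : Y ⟶ X) (y : Y) : stk (g ≫ f) y = stk f (g y) ≫ g.stalkMap y := by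
  refine Spec.map_injective ?_
  rw [map_stk, Spec.map_comp, map_stk, Scheme.SpecMap_stalkMap_fromSpecStalk_assoc]

theorem stk_map {S : CommRingCat.{u}} (g : X ⟶ Spec S) (φ : R ⟶ S) : stk (g ≫ Spec.map φ) x = φ ≫ stk g x := by
  refine Spec.map_injective ?_
  rw [map_stk, Spec.map_comp, map_stk, Category.assoc]

theorem isUnit_stk_iff (r : R) : IsUnit (stk f x r) ↔ f x ∈ PrimeSpectrum.basicOpen r := by
  have h : f x = Spec.map (stk f x) (IsLocalRing.closedPoint _) := by
    rw [map_stk, Scheme.Hom.comp_apply, Scheme.fromSpecStalk_closedPoint]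
  rw [h]
  show _ ↔ stk f x r ∉ maximalIdeal (X.presheaf.stalk x)
  rw [mem_maximalIdeal, mem_nonunits_iff, not_not]

end Stk

/-- Localisation of a regular quotient. -/
theorem regular_quotient_atPrime {S : Type u} [CommRing S] (p : Ideal S) [p.IsPrime] (s : S) (hs : s ∈ p)
    (O : Type u) [CommRing O] [Algebra S O] [IsLocalization.AtPrime O p]
    [IsRegularRing (S ⧸ Ideal.span {s})] : IsRegularLocalRing (O ⧸ Ideal.span {algebraMap S O s}) := by
  let I := Ideal.span {s}
  have hI : I ≤ p := (Ideal.span_singleton_le_iff_mem p).2 hs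
  let pb := p.map (Ideal.Quotient.mk I)
  have hcm : pb.comap (Ideal.Quotient.mk I) = p := by
    rw [Ideal.comap_map_of_surjective _ Ideal.Quotient.mk_surjective, ← RingHom.ker_eq_comap_bot, Ideal.mk_ker]
    exact sup_eq_left.2 hI
  haveI : pb.IsPrime := Ideal.map_isPrime_of_surjective Ideal.Quotient.mk_surjective (by rwa [Ideal.mk_ker])
  let T := Localization.AtPrime pb
  have hu : ∀ y : p.primeCompl, IsUnit (((algebraMap (S ⧸ I) T).comp (Ideal.Quotient.mk I)) y) := fun y =>
    IsLocalization.map_units (M := pb.primeCompl) T ⟨Ideal.Quotient.mk I y, fun h => y.2 (show (y : S) ∈ p from hcm.le h)⟩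
  let ρ : O →+* T := IsLocalization.lift (M := p.primeCompl) hu
  have hρ : ∀ a, ρ (algebraMap S O a) = algebraMap (S ⧸ I) T (Ideal.Quotient.mk I a) := fun a =>
    IsLocalization.lift_eq hu a
  have hsurj : Function.Surjective ρ := by
    intro t
    obtain ⟨a, y, rfl⟩ := IsLocalization.exists_mk'_eq pb.primeCompl t
    obtain ⟨a, rfl⟩ := Ideal.Quotient.mk_surjective a
    obtain ⟨b, hb⟩ := Ideal.Quotient.mk_surjective (y : S ⧸ I)
    have hbp : b ∉ p := fun h => y.2 (hb ▸ Ideal.mem_map_of_mem _ h)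
    refine ⟨IsLocalization.mk' O a (⟨b, hbp⟩ : p.primeCompl), ?_⟩
    rw [eq_comm, IsLocalization.mk'_eq_iff_eq_mul, ← hb, ← hρ, ← hρ, ← map_mul, IsLocalization.mk'_spec]
  have hker : RingHom.ker ρ = Ideal.span {algebraMap S O s} := by
    refine le_antisymm (fun z hz => ?_) ((Ideal.span_singleton_le_iff_mem _).2 ?_)
    · obtain ⟨a, b, rfl⟩ := IsLocalization.exists_mk'_eq p.primeCompl z
      have h0 : ρ (algebraMap S O a) = 0 := by
        rw [← IsLocalization.mk'_spec O a b, map_mul, RingHom.mem_ker.1 hz, zero_mul]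
      rw [hρ, IsLocalization.map_eq_zero_iff pb.primeCompl T] at h0
      obtain ⟨m, hm⟩ := h0
      obtain ⟨c, hc⟩ := Ideal.Quotient.mk_surjective (m : S ⧸ I)
      rw [← hc, ← map_mul, Ideal.Quotient.eq_zero_iff_mem] at hm
      obtain ⟨d, hd⟩ := Ideal.mem_span_singleton'.1 hm
      have hcp : c ∉ p := fun h => m.2 (hc ▸ Ideal.mem_map_of_mem _ h)
      refine (Ideal.mul_unit_mem_iff_mem _ (IsLocalization.map_units O b)).1 ?_
      rw [IsLocalization.mk'_spec]
      refine (Ideal.mul_unit_mem_iff_mem _ (IsLocalization.map_units O (⟨c, hcp⟩ : p.primeCompl))).1 ?_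
      show algebraMap S O a * algebraMap S O c ∈ _
      rw [← map_mul, mul_comm a c, ← hd, map_mul]
      exact Ideal.mul_mem_left _ _ (Ideal.mem_span_singleton_self _)
    · rw [RingHom.mem_ker, hρ, Ideal.Quotient.eq_zero_iff_mem.2 (Ideal.mem_span_singleton_self s), map_zero]
  haveI : IsRegularLocalRing T := IsRegularRing.isRegularLocalRing_localization pb
  exact IsRegularLocalRing.of_ringEquiv (R := T)
    ((RingHom.quotientKerEquivOfSurjective hsurj).symm.trans (Ideal.quotEquivOfEq hker))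

/-- On a scheme smooth over a DVR the uniformiser cuts out a regular quotient at a special point. -/
theorem regular_quotient_stk {V : Type u} [CommRing V] [IsDomain V] [IsDiscreteValuationRing V] (ϖ : V)
    (hϖ : Irreducible ϖ) {X : Scheme.{u}} (f : X ⟶ Spec (CommRingCat.of V)) [Smooth f] (x : X)
    (hx : ¬ IsUnit (stk f x ϖ)) :
    IsRegularLocalRing (X.presheaf.stalk x ⧸ Ideal.span {stk f x ϖ}) := by
  obtain ⟨W, hW, hxW, -⟩ := exists_isAffineOpen_mem_and_subset (x := x) (U := ⊤) trivial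
  let φ : V →+* Γ(X, W) := (f.appLE ⊤ W le_top).hom.comp (Scheme.ΓSpecIso (CommRingCat.of V)).inv.hom
  have hsm : φ.Smooth := RingHom.Smooth.respectsIso.2 _ (Scheme.ΓSpecIso (CommRingCat.of V)).symm.commRingCatIsoToRingEquiv
    (HasRingHomProperty.appLE @Smooth f ‹_› ⟨⊤, isAffineOpen_top _⟩ ⟨W, hW⟩ le_top)
  algebraize [φ]
  haveI : Algebra.Smooth V Γ(X, W) := hsm.toAlgebra
  have hmax : (Ideal.span {ϖ}).IsMaximal := by rw [← hϖ.maximalIdeal_eq]; infer_instance
  letI : Field (V ⧸ Ideal.span {ϖ}) := Ideal.Quotient.field _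
  let Q := TensorProduct V (V ⧸ Ideal.span {ϖ}) Γ(X, W)
  haveI : IsRegularRing Q := CAlgH.isRegularRing_of_smooth (V ⧸ Ideal.span {ϖ}) Q
  have e : Q ≃+* Γ(X, W) ⧸ Ideal.span {φ ϖ} :=
    ((Algebra.TensorProduct.comm V (V ⧸ Ideal.span {ϖ}) Γ(X, W)).toRingEquiv.trans
      (Algebra.TensorProduct.quotIdealMapEquivTensorQuot Γ(X, W) (Ideal.span {ϖ})).symm.toRingEquiv).trans
      (Ideal.quotEquivOfEq (by rw [Ideal.map_span, Set.image_singleton]; rfl))
  haveI : IsRegularRing (Γ(X, W) ⧸ Ideal.span {φ ϖ}) := IsRegularRing.of_ringEquiv e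
  letI := TopCat.Presheaf.algebra_section_stalk X.presheaf (⟨x, hxW⟩ : W)
  haveI := hW.isLocalization_stalk ⟨x, hxW⟩
  have hgerm : algebraMap Γ(X, W) (X.presheaf.stalk x) (φ ϖ) = stk f x ϖ := by
    have : CommRingCat.ofHom φ ≫ X.presheaf.germ W x hxW = stk f x := by
      refine Spec.map_injective ?_
      rw [map_stk, Spec.map_comp, ← hW.fromSpecStalk_eq_fromSpecStalk hxW, IsAffineOpen.fromSpecStalk, Category.assoc]
      congr 1
      show Spec.map ((Scheme.ΓSpecIso (CommRingCat.of V)).inv ≫ f.appLE ⊤ W le_top) = _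
      rw [Spec.map_comp, ← IsAffineOpen.SpecMap_appLE_fromSpec f (isAffineOpen_top _) hW le_top, IsAffineOpen.fromSpec_top]
      simp [Scheme.isoSpec_Spec_inv]
    exact congr($this ϖ)
  rw [← hgerm] at hx ⊢
  refine regular_quotient_atPrime (hW.primeIdealOf ⟨x, hxW⟩).asIdeal (φ ϖ) ?_ _
  by_contra hnot
  exact hx (IsLocalization.map_units (M := (hW.primeIdealOf ⟨x, hxW⟩).asIdeal.primeCompl) _ ⟨φ ϖ, hnot⟩)

theorem isRegularRing_adjoinRoot {V : Type u} [CommRing V] [IsDomain V] [IsDiscreteValuationRing V] (ϖ : V)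
    (hϖ : Irreducible ϖ) (n : ℕ) (hn : 1 ≤ n) :
    IsRegularRing (AdjoinRoot (Polynomial.X ^ n - Polynomial.C ϖ)) := by
  let f : Fin 1 → V := fun _ => ϖ
  let m : Fin 1 → ℕ := fun _ => n
  have hm : ∀ i, f i ∈ maximalIdeal V := fun _ => hϖ.not_isUnit
  have hf : LinearIndependent (ResidueField V) (fun i => (maximalIdeal V).toCotangent ⟨f i, hm i⟩) :=
    linearIndependent_unique_iff.2 fun h => by
      have h2 := (Ideal.toCotangent_eq_zero _ _).1 h
      have h2' : ϖ ∈ maximalIdeal V ^ 2 := h2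
      rw [hϖ.maximalIdeal_eq, Ideal.span_singleton_pow, Ideal.mem_span_singleton] at h2'
      replace h2 := h2'
      obtain ⟨c, hc⟩ := h2
      exact hϖ.not_isUnit (IsUnit.of_mul_eq_one c (mul_left_cancel₀ hϖ.ne_zero (by linear_combination -hc)))
  haveI := CAlgH.KummerAlg.isRegularLocalRing f hm hf m (fun _ => hn)
  let P := Polynomial.X ^ n - Polynomial.C ϖ
  have hroot : AdjoinRoot.root P ^ n = algebraMap V (AdjoinRoot P) ϖ := by
    have := AdjoinRoot.eval₂_root P
    simpa [P, sub_eq_zero] using this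
  obtain ⟨φ, hφ⟩ := CAlgH.KummerAlg.exists_algHom f m (S := AdjoinRoot P) (fun _ => AdjoinRoot.root P) (fun _ => hroot)
  let ψ : AdjoinRoot P →ₐ[V] SGA1.kummerAlg V f m := AdjoinRoot.liftAlgHom _ (Algebra.ofId V _) (CAlgH.KummerAlg.root f m 0) (by
    simp [P, CAlgH.KummerAlg.root_pow f m 0, sub_eq_zero]; exact CAlgH.KummerAlg.root_pow f m 0)
  have hψ : ψ (AdjoinRoot.root P) = CAlgH.KummerAlg.root f m 0 := AdjoinRoot.liftAlgHom_root _ _ _ _
  let e : SGA1.kummerAlg V f m ≃ₐ[V] AdjoinRoot P := AlgEquiv.ofAlgHom φ ψ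
    (AdjoinRoot.algHom_ext (by rw [AlgHom.comp_apply, hψ, hφ]; rfl))
    (CAlgH.KummerAlg.algHom_ext' f m fun i => by
      obtain rfl : i = 0 := Subsingleton.elim _ _
      rw [AlgHom.comp_apply, hφ, hψ]; rfl)
  haveI : IsRegularLocalRing (AdjoinRoot P) := IsRegularLocalRing.of_ringEquiv e.toRingEquiv
  exact CAlgH3.isRegularRing_of_isRegularLocalRing

end Groth.Agent.Et18.AbhyankarExt
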