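import Groth.Agent.Et18.AbhyankarExt.Galois
import Groth.Agent.Et18.AbhyankarExt.Smooth
import Groth.Agent.TameKum.Exponents
import Groth.Agent.TameKum.Schemes
import Groth.Agent.TameKum.RootExtend
import Groth.Agent.FEtFF.ExtendNormal
import Groth.Prelude.Def_PiSp
import Mathlib.AlgebraicGeometry.Morphisms.UniversallyOpen

/-!
# Galois covers of the generic fibre extend after taking a root of the uniformiser
-/

set_option autoImplicit false
set_option linter.all false
set_option backward.isDefEq.respectTransparency.types false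
set_option backward.isDefEq.respectTransparency false
set_option maxHeartbeats 2000000

universe u

open CategoryTheory CategoryTheory.Limits AlgebraicGeometry Opposite IsLocalRing
open Groth.Agent.TameKum

namespace Groth.Agent.Et18.AbhyankarExt

/-- Composition of restrictions of finite étale covers. -/
noncomputable def rc {X Y Z : Scheme.{u}} (f : X ⟶ Y) (g : Y ⟶ Z) :
    FEt.restrict (f ≫ g) ≅ FEt.restrict g ⋙ FEt.restrict f :=
  MorphismProperty.Over.pullbackComp f g

noncomputable def rg {X Y : Scheme.{u}} {f g : X ⟶ Y} (h : f = g) : FEt.restrict f ≅ FEt.restrict g :=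
  eqToIso (by rw [h])

variable {R : Type u} [CommRing R] [IsRegularLocalRing R] [IsDomain R]

theorem isLocalization_away_dvr {V K : Type u} [CommRing V] [IsDomain V] [IsDiscreteValuationRing V] [Field K]
    [Algebra V K] [IsFractionRing V K] (ϖ : V) (hϖ : Irreducible ϖ) : IsLocalization.Away ϖ K := by
  have h0 : algebraMap V K ϖ ≠ 0 := (map_ne_zero_iff _ (IsFractionRing.injective V K)).2 hϖ.ne_zero
  refine { map_units := ?_, surj := fun z => ?_, exists_of_eq := fun {a b} h => ⟨1, by rw [IsFractionRing.injective V K h]⟩ }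
  · rintro ⟨_, k, rfl⟩
    rw [map_pow]
    exact (isUnit_iff_ne_zero.2 h0).pow k
  · obtain ⟨a, b, hb, rfl⟩ := IsFractionRing.div_surjective V z
    obtain ⟨k, u, rfl⟩ := IsDiscreteValuationRing.eq_unit_mul_pow_irreducible (nonZeroDivisors.ne_zero hb) hϖ
    refine ⟨(a * (↑u⁻¹ : V), ⟨ϖ ^ k, k, rfl⟩), ?_⟩
    show algebraMap V K a / algebraMap V K (↑u * ϖ ^ k) * algebraMap V K (ϖ ^ k) = algebraMap V K (a * ↑u⁻¹)
    have hu : algebraMap V K ↑u ≠ 0 := (u.isUnit.map _).ne_zero
    rw [map_mul, map_mul, map_pow, map_units_inv, div_mul_eq_mul_div, mul_div_mul_right _ _ (pow_ne_zero _ h0),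
      div_eq_mul_inv]

set_option maxHeartbeats 8000000 in
/-- **Main statement**. -/
theorem main (V K : Type u) [CommRing V] [IsDomain V] [IsDiscreteValuationRing V] [Field K] [Algebra V K]
    [IsFractionRing V K] (ϖ : V) (hϖ : Irreducible ϖ) (n : ℕ) (hn : IsUnit (n : V))
    {X : Scheme.{u}} (f : X ⟶ Spec (CommRingCat.of V)) [Smooth f] [IrreducibleSpace ↥X]
    (Xt : FEt.Cat (pullback f (Spec.map (CommRingCat.ofHom (algebraMap V K))))) [ConnectedSpace ↥Xt.left]
    (hgal : ∀ (Ω : Type u) [Field Ω] [IsAlgClosed Ω]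
      (ξ : Spec (CommRingCat.of Ω) ⟶ pullback f (Spec.map (CommRingCat.ofHom (algebraMap V K))))
      (s s' : FEt.fiberObj ξ Xt), ∃ σ : Aut Xt, (FEt.fiber ξ).map σ.hom s = s')
    (hdeg : Nat.card (Aut Xt) = n) :
    ∃ Y₁ : FEt.Cat (pullback f (Spec.map (CommRingCat.ofHom
        (algebraMap V (AdjoinRoot (Polynomial.X ^ n - Polynomial.C ϖ)))))),
      Nonempty ((FEt.restrict (pullback.snd
          (pullback.fst f (Spec.map (CommRingCat.ofHom (algebraMap V K))))
          (pullback.fst f (Spec.map (CommRingCat.ofHom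
            (algebraMap V (AdjoinRoot (Polynomial.X ^ n - Polynomial.C ϖ)))))))).obj Y₁ ≅
        (FEt.restrict (pullback.fst
          (pullback.fst f (Spec.map (CommRingCat.ofHom (algebraMap V K))))
          (pullback.fst f (Spec.map (CommRingCat.ofHom
            (algebraMap V (AdjoinRoot (Polynomial.X ^ n - Polynomial.C ϖ)))))))).obj Xt) := by
  classical
  have hn1 : 1 ≤ n := Nat.one_le_iff_ne_zero.2 fun h => by simp [h] at hn
  haveI : Finite (Aut Xt) := Nat.finite_of_card_ne_zero (by omega)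
  let P := Polynomial.X ^ n - Polynomial.C ϖ
  let sK := Spec.map (CommRingCat.ofHom (algebraMap V K))
  let sV1 := Spec.map (CommRingCat.ofHom (algebraMap V (AdjoinRoot P)))
  haveI : IsLocalization.Away ϖ K := isLocalization_away_dvr ϖ hϖ
  haveI : IsOpenImmersion sK := IsOpenImmersion.of_isLocalization ϖ
  haveI hP : P.Monic := Polynomial.monic_X_pow_sub_C ϖ (by omega)
  haveI : Module.Free V (AdjoinRoot P) := hP.free_adjoinRoot
  haveI : Module.Finite V (AdjoinRoot P) := hP.finite_adjoinRoot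
  haveI : IsFinite sV1 := (IsFinite.SpecMap_iff _).2 (RingHom.finite_algebraMap.2 inferInstance)
  haveI : Flat sV1 := (HasRingHomProperty.Spec_iff (P := @Flat)).2 (RingHom.flat_algebraMap_iff.2 inferInstance)
  haveI := isRegularRing_adjoinRoot ϖ hϖ n hn1
  let j := pullback.fst f sK
  let p₁ := pullback.fst f sV1
  let f₁ := pullback.snd f sV1
  haveI : Flat p₁ := inferInstance
  haveI : Smooth f₁ := inferInstance
  haveI : IsLocallyNoetherian (pullback f sV1) := LocallyOfFiniteType.isLocallyNoetherian f₁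
  have hrj : ∀ x : X, x ∈ Set.range j ↔ IsUnit (stk f x ϖ) := fun x => by
    rw [Scheme.Pullback.range_fst, Set.mem_preimage, isUnit_stk_iff,
      show Set.range sK = ((PrimeSpectrum.basicOpen ϖ : TopologicalSpace.Opens (PrimeSpectrum V)) : Set (PrimeSpectrum V)) from
        PrimeSpectrum.localization_away_comap_range K ϖ]
    rfl
  let sn := pullback.snd j p₁
  let q := pullback.fst j p₁
  let U := sn.opensRange
  let e := sn.isoOpensRange
  have he : e.hom ≫ U.ι = sn := sn.isoOpensRange_hom_ι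
  have hUmem : ∀ z : ↥(pullback f sV1), z ∈ U ↔ p₁ z ∈ Set.range j := fun z => by
    show z ∈ Set.range sn ↔ _
    rw [Scheme.Pullback.range_snd]; rfl
  -- the generic point of `X`
  have hηj : genericPoint X ∈ Set.range j := by
    obtain ⟨w⟩ := (inferInstance : Nonempty Xt.left)
    exact ((genericPoint_spec X).mem_open_set_iff j.isOpenEmbedding.isOpen_range).mpr
      ⟨_, Set.mem_univ _, Set.mem_range_self (Xt.hom w)⟩
  have hU : Dense (U : Set ↥(pullback f sV1)) := fun z => by
    obtain ⟨z', hz', hpz⟩ := Flat.generalizingMap p₁ (genericPoint_specializes (p₁ z))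
    exact mem_closure_iff_nhds.2 fun N hN => by
      obtain ⟨O, hON, hO, hzO⟩ := mem_nhds_iff.1 hN
      exact ⟨z', hON (hz'.mem_open hO hzO), (hUmem z').2 (hpz.symm ▸ hηj)⟩
  let Y : FEt.Cat (U : Scheme.{u}) := (FEt.restrict (e.inv ≫ q)).obj Xt
  -- extension over the local schemes
  have hloc : ∀ ξ : ↥(pullback f sV1), ξ ∉ U →
      ∃ Yξ : FEt.Cat (Spec ((pullback f sV1).presheaf.stalk ξ)),
        Nonempty ((FEt.restrict (pullback.snd U.ι ((pullback f sV1).fromSpecStalk ξ))).obj Yξ ≅
          (FEt.restrict (pullback.fst U.ι ((pullback f sV1).fromSpecStalk ξ))).obj Y) := by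
    intro ξ hξ
    let x := p₁ ξ
    let A := X.presheaf.stalk x
    have hnu : ¬ IsUnit (stk f x ϖ) := fun h => hξ ((hUmem ξ).2 ((hrj x).2 h))
    haveI : IsRegularLocalRing A := NeronLib.isRegularLocalRing_stalk_of_smooth f x
    haveI : IsDomain A := CAlgH3.isDomain_of_isRegularLocalRing A
    let t : A := stk f x ϖ
    have ht0 : t ≠ 0 := by
      obtain ⟨p, hp⟩ : genericPoint X ∈ Set.range (X.fromSpecStalk x) := by
        rw [Scheme.range_fromSpecStalk]; exact genericPoint_specializes x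
      intro h0
      have h1 := (isUnit_stk_iff f (X.fromSpecStalk x p) ϖ).1 ((hrj _).1 (hp.symm ▸ hηj))
      rw [← Scheme.Hom.comp_apply, ← map_stk f x] at h1
      exact h1 (show stk f x ϖ ∈ p.asIdeal by rw [show stk f x ϖ = 0 from h0]; exact zero_mem _)
    haveI hregq : IsRegularLocalRing (A ⧸ Ideal.span {t}) := regular_quotient_stk ϖ hϖ f x hnu
    have hprime : (Ideal.span {t}).IsPrime := by
      haveI := CAlgH3.isDomain_of_isRegularLocalRing (A ⧸ Ideal.span {t})
      exact (Ideal.Quotient.isDomain_iff_prime _).1 inferInstance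
    let fv : Fin 1 → A := fun _ => t
    haveI : ∀ i, (Ideal.span {fv i}).IsPrime := fun _ => hprime
    have hm : ∀ i, fv i ∈ maximalIdeal A := fun _ => hnu
    have hf : LinearIndependent (ResidueField A) (fun i => (maximalIdeal A).toCotangent ⟨fv i, hm i⟩) :=
      linearIndependent_unique_iff.2 fun h =>
        notMem_sq_of_regular_quotient ht0 ((Ideal.toCotangent_eq_zero _ _).1 h)
    let g : A := ∏ i, fv i
    have hg : g = t := Fin.prod_univ_one _
    let D := SGA1.specBasicOpen A g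
    have hD : ∀ d : Spec A, d ∈ D ↔ X.fromSpecStalk x d ∈ Set.range j := fun d => by
      rw [hrj, isUnit_stk_iff, ← Scheme.Hom.comp_apply, ← map_stk f x]
      show g ∉ d.asIdeal ↔ stk f x ϖ ∉ d.asIdeal
      rw [hg]
    let ψ : (D : Scheme.{u}) ⟶ pullback f sK := IsOpenImmersion.lift j (D.ι ≫ X.fromSpecStalk x) (by
      rintro _ ⟨d, rfl⟩
      rw [Scheme.Hom.comp_apply]
      exact (hD _).1 d.2)
    have hψ : ψ ≫ j = D.ι ≫ X.fromSpecStalk x := IsOpenImmersion.lift_fac _ _ _
    let Vc : FEt.Cat (D : Scheme.{u}) := (FEt.restrict ψ).obj Xt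
    obtain ⟨hVaff, θ, hθ, hθf, hθe, hV⟩ := cover_affine g Vc
    haveI := hVaff
    let B := Γ(Vc.left, ⊤)
    letI : Algebra A B := (coverHom g Vc).toAlgebra
    letI : Algebra (Localization.Away g) B := θ.toAlgebra
    haveI : IsScalarTower A (Localization.Away g) B :=
      IsScalarTower.of_algebraMap_eq fun a => (RingHom.congr_fun hθ a).symm
    haveI : Module.Finite (Localization.Away g) B := hθf
    haveI : Algebra.Etale (Localization.Away g) B := RingHom.etale_algebraMap.1 hθe
    -- the action of the Galois group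
    have hw : ∀ σ : Aut Xt, ((FEt.restrict ψ).map σ.hom).left.appTop.hom.comp (coverHom g Vc) = coverHom g Vc := by
      intro σ
      have h1 : ((FEt.restrict ψ).map σ.hom).left ≫ (Vc.hom ≫ D.ι) = Vc.hom ≫ D.ι := by
        rw [← Category.assoc]
        exact congrArg (· ≫ D.ι) (MorphismProperty.Over.w ((FEt.restrict ψ).map σ.hom))
      have h2 : (Vc.hom ≫ D.ι).appTop ≫ ((FEt.restrict ψ).map σ.hom).left.appTop = (Vc.hom ≫ D.ι).appTop :=
        (Scheme.Hom.comp_appTop _ _).symm.trans (congrArg (fun m => Scheme.Hom.appTop m) h1)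
      exact RingHom.ext fun a => ConcreteCategory.congr_hom h2 _
    let act : Aut Xt → (B →ₐ[A] B) := fun σ =>
      { toRingHom := ((FEt.restrict ψ).map σ.hom).left.appTop.hom
        commutes' := fun a => RingHom.congr_fun (hw σ) a }
    have h1 : act 1 = AlgHom.id A B := AlgHom.ext fun b => by
      show ((FEt.restrict ψ).map (𝟙 Xt)).left.appTop b = b
      rw [CategoryTheory.Functor.map_id]
      rfl
    have hmul : ∀ σ τ : Aut Xt, act (σ * τ) = (act τ).comp (act σ) := fun σ τ => AlgHom.ext fun b => by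
      show ((FEt.restrict ψ).map (τ.hom ≫ σ.hom)).left.appTop b = _
      rw [Functor.map_comp]
      rfl
    have htrans : ∀ (Ω : Type u) [Field Ω] [IsAlgClosed Ω] [Algebra A Ω] (φ φ' : B →ₐ[A] Ω),
        ∃ σ, φ.comp (act σ) = φ' := by
      intro Ω _ _ _ φ φ'
      let pt : (B →ₐ[A] Ω) → (Spec (CommRingCat.of Ω) ⟶ Vc.left) := fun χ =>
        Spec.map (CommRingCat.ofHom χ.toRingHom) ≫ Vc.left.isoSpec.inv
      have hpt : ∀ χ, pt χ ≫ Vc.hom ≫ D.ι = Spec.map (CommRingCat.ofHom (algebraMap A Ω)) := fun χ => by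
        show (Spec.map (CommRingCat.ofHom χ.toRingHom) ≫ Vc.left.isoSpec.inv) ≫ (Vc.hom ≫ D.ι) = _
        rw [hV, Category.assoc, Iso.inv_hom_id_assoc]
        refine (Spec.map_comp _ _).symm.trans (congrArg Spec.map ?_)
        exact CommRingCat.hom_ext (RingHom.ext fun a => χ.commutes a)
      have hpt' : pt φ ≫ Vc.hom = pt φ' ≫ Vc.hom := by
        rw [← cancel_mono D.ι]
        exact (Category.assoc _ _ _).trans ((hpt φ).trans ((hpt φ').symm.trans (Category.assoc _ _ _).symm))
      have hcond : ∀ χ, (pt χ ≫ pullback.fst Xt.hom ψ) ≫ Xt.hom = (pt χ ≫ Vc.hom) ≫ ψ := fun χ => by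
        rw [Category.assoc, pullback.condition, ← Category.assoc]
        rfl
      obtain ⟨σ, hσ⟩ := hgal Ω ((pt φ ≫ Vc.hom) ≫ ψ) ⟨_, hcond φ⟩ ⟨_, (hcond φ').trans (by rw [hpt'])⟩
      refine ⟨σ, ?_⟩
      have hσ' : (pt φ ≫ pullback.fst Xt.hom ψ) ≫ σ.hom.left = pt φ' ≫ pullback.fst Xt.hom ψ := congrArg Subtype.val hσ
      have h2 : pt φ ≫ ((FEt.restrict ψ).map σ.hom).left = pt φ' := by
        refine pullback.hom_ext ?_ ?_
        · rw [Category.assoc, ← hσ']
          simp [FEt.restrict, Vc]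
        · rw [Category.assoc]
          exact (congrArg (pt φ ≫ ·) (MorphismProperty.Over.w ((FEt.restrict ψ).map σ.hom))).trans hpt'
      have h3 : pt (φ.comp (act σ)) = pt φ ≫ ((FEt.restrict ψ).map σ.hom).left := by
        simp only [pt, Category.assoc, ← Scheme.isoSpec_inv_naturality]
        rw [← Category.assoc, ← Spec.map_comp]
        rfl
      have h4 := h3.trans h2
      simp only [pt, cancel_mono, Spec.map_inj] at h4
      exact AlgHom.ext fun b => congr($(h4).hom b)
    have hnA : IsUnit (n : A) := by rw [← map_natCast (stk f x).hom n]; exact hn.map _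
    obtain ⟨hdvr', hdvr⟩ := isDVR_atPrime_span (x := t) ht0
    have hnκ : (n : ResidueField (Localization.AtPrime (Ideal.span {t}))) ≠ 0 := by
      rw [← map_natCast (algebraMap A (ResidueField (Localization.AtPrime (Ideal.span {t}))))]
      exact (hnA.map _).ne_zero
    have hg0 : g ≠ 0 := hg.symm ▸ ht0
    obtain ⟨htame, hkill⟩ := tame_kills act h1 hmul htrans g hg0 t ht0 inferInstance (hdeg ▸ hnκ)
    rw [hdeg] at hkill
    have hta : SGA1.IsTameAlong fv (algebraMap A B) := fun i q _ hq => htame q hq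
    let nv : Fin 1 → ℕ := fun _ => n
    let A1 := SGA1.kummerAlg A fv nv
    obtain ⟨_, _, _, _, hinj, hht⟩ := isRegular_kummer fv hm hf nv (fun _ => hn1)
    haveI : FaithfulSMul A A1 := (faithfulSMul_iff_algebraMap_injective _ _).2 hinj
    haveI : IsLocalHom (algebraMap A A1) := Algebra.IsIntegral.isLocalHom A _
    have hext : Extends A1 B g := extends_of_roots fv hm hf hta Nat.one_pos nv (fun _ => hn1) (fun _ => hnκ)
      (fun _ => hkill) A1 hinj (fun Q hQ hQ1 => by rw [hht Q hQ, hQ1]) (CAlgH.KummerAlg.root fv nv)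
      (CAlgH.KummerAlg.root_pow fv nv)
    obtain ⟨W, ⟨iW⟩⟩ := restrict_iso g Vc rfl hV hext
    -- the map to the Kummer cover
    let Oξ := (pullback f sV1).presheaf.stalk ξ
    letI : Algebra A Oξ := (p₁.stalkMap ξ).hom.toAlgebra
    have hroot : AdjoinRoot.root P ^ n = algebraMap V (AdjoinRoot P) ϖ := by
      have := AdjoinRoot.eval₂_root P
      simpa [P, sub_eq_zero] using this
    have hcomp : stk f x ≫ p₁.stalkMap ξ = CommRingCat.ofHom (algebraMap V (AdjoinRoot P)) ≫ stk f₁ ξ := by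
      rw [← stk_comp f p₁ ξ, ← stk_map]
      exact congrArg (fun m => stk m ξ) pullback.condition
    obtain ⟨φ₁, -⟩ := CAlgH.KummerAlg.exists_algHom fv nv (S := Oξ) (fun _ => stk f₁ ξ (AdjoinRoot.root P))
      (fun i => by
        show stk f₁ ξ (AdjoinRoot.root P) ^ n = p₁.stalkMap ξ (stk f x ϖ)
        rw [← map_pow, hroot]
        exact (congr($hcomp ϖ)).symm)
    let h : Spec Oξ ⟶ Spec (CommRingCat.of A1) := Spec.map (CommRingCat.ofHom φ₁.toRingHom)
    let π := Spec.map (CommRingCat.ofHom (algebraMap A A1))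
    have hhπ : h ≫ π ≫ X.fromSpecStalk x = (pullback f sV1).fromSpecStalk ξ ≫ p₁ := by
      rw [← Scheme.SpecMap_stalkMap_fromSpecStalk, ← Category.assoc]
      congr 1
      rw [← Spec.map_comp]
      exact congrArg Spec.map (CommRingCat.hom_ext φ₁.comp_algebraMap)
    refine ⟨(FEt.restrict h).obj W, ?_⟩
    let a := pullback.fst U.ι ((pullback f sV1).fromSpecStalk ξ)
    let b := pullback.snd U.ι ((pullback f sV1).fromSpecStalk ξ)
    let l : pullback U.ι ((pullback f sV1).fromSpecStalk ξ) ⟶ ((π ⁻¹ᵁ D : _) : Scheme.{u}) :=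
      IsOpenImmersion.lift (π ⁻¹ᵁ D).ι (b ≫ h) (by
        rintro _ ⟨y, rfl⟩
        rw [Scheme.Opens.range_ι]
        show π ((b ≫ h) y) ∈ D
        rw [hD, show X.fromSpecStalk x (π ((b ≫ h) y)) = (b ≫ h ≫ π ≫ X.fromSpecStalk x) y from rfl, hhπ,
          ← pullback.condition_assoc, Scheme.Hom.comp_apply, Scheme.Hom.comp_apply, ← hUmem]
        exact (a y).2)
    have hl : l ≫ (π ⁻¹ᵁ D).ι = b ≫ h := IsOpenImmersion.lift_fac _ _ _
    have heq : l ≫ (π ∣_ D) ≫ ψ = a ≫ e.inv ≫ q := by
      rw [← cancel_mono j]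
      simp only [Category.assoc, hψ, morphismRestrict_ι_assoc]
      rw [reassoc_of% hl, hhπ, ← pullback.condition_assoc, pullback.condition, ← reassoc_of% he, Iso.inv_hom_id_assoc]
    exact ⟨(rc b h).symm.app W ≪≫ (rg hl.symm).app W ≪≫ (rc l _).app W ≪≫ (FEt.restrict l).mapIso iW ≪≫
      (FEt.restrict l).mapIso ((rc (π ∣_ D) ψ).symm.app Xt) ≪≫ (rc l _).symm.app Xt ≪≫ (rg heq).app Xt ≪≫
      (rc a _).app Xt⟩
  obtain ⟨Y', ⟨iY⟩⟩ := FEtFF.ExtendNormal.exists_extension_of_unramified_codim_one hU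
    (fun z _ => NeronLib.isRegularLocalRing_stalk_of_smooth f₁ z) Y (fun ξ hξ _ => hloc ξ hξ)
  refine ⟨Y', ⟨(rg he.symm).app Y' ≪≫ (rc e.hom U.ι).app Y' ≪≫ (FEt.restrict e.hom).mapIso iY ≪≫
    (rc e.hom (e.inv ≫ q)).symm.app Xt ≪≫ (rg (e.hom_inv_id_assoc q)).app Xt⟩⟩

end Groth.Agent.Et18.AbhyankarExt
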